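import Cfsg.Agent.Chevalley.Check
import Cfsg.Prelude.Def_ChevE6
import Cfsg.Agent.Eq.Def_ChevE6

/-! Literal tables for the type E6: root vectors, reflections and signs (generated). -/

set_option autoImplicit false

namespace CfsgLib.Chevalley

/-- Tables of type E6. -/
def tabE6 : Tab where
  vec := 0x11121213121100001111121312110000111112121211000011111212111100001111121211100000111111121211000011111112111100001111111211100000111111111111000011111111111000001111111110100000111011111111000011101111111000001110111110100000111011101010000011101010101000001011111212110000101111121111000010111112111000001011111111110000101111111110000010111111101000001011101111110000101110111110000010111011101000001011101010100000101011111111000010101111111000001010111110100000101011101010000010101011111100001010101111100000101010111010000010101010111100001010101011100000101010101011000010101010100f0000101010100f100000101010100f0f00001010100f101000001010100f0f1000001010100f0f0f000010100f101010000010100f0f1010000010100f0f0f10000010100f0f0f0f0000100f101010100000100f100f10100000100f100f0f100000100f100f0f0f0000100f0f0f10100000100f0f0f0f100000100f0f0f0f0f0000100f0f0e0f100000100f0f0e0f0f0000100f0f0e0e0f00000f101010101000000f100f10101000000f100f0f101000000f100f0f0f1000000f100f0f0f0f00000f0f0f0f101000000f0f0f0f0f1000000f0f0f0f0f0f00000f0f0f0e0f1000000f0f0f0e0f0f00000f0f0f0e0e0f00000f0f0e0e0f1000000f0f0e0e0f0f00000f0f0e0e0e0f00000f0f0e0d0e0f00000f0e0e0d0e0f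
  w := [0x47464544433736353433322d2c2b2a0f4241403f3e3d31302f2e3c3b3a39292827262524232221201f1e0e0d0c0b191817160a0908070605381d1c1b1a1514131211100403020100, 0x46474544434241403c3b3a3f3e3d39383736352d2c2b292827193433322a31302f2625242322211817161d1514132e201f1e1c1b1a1211100f0e0a09080d0c0b0706050403020001, 0x47464241404544433f3e3d3c3b3a383937363531302f3433322e2928271d2d2c2b2625242322211c1b1a2a201f1e191514131817161211100e0f0d0c0b0a09080403020706050100, 0x4745464443423f3e41403d3c3b393a3837343336353231302e2f2d2c2a2b262520292824231f1e2722211c1d1b1a181917161512111413100f0d0e0c0b0a07060908050403010200, 0x47464445434142403f3d3e3c3a3b3938363735343233312f302e2d2b2c2a2927282422262125231f201e1d1b1c1a191718161415131210110f0e0c0d0b090a080705060402030100, 0x47464543444240413e3f3d3b3c3a393837353633343230312f2e2c2d2b2a282927252623242122201e1f1d1c1a1b191816171513141112100f0e0d0b0c0a08090607050304020100]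
  eta := [0x1fc3c003c3f8000, 0x80e01c4381c2380701, 0x38021c0781e038401c, 0x43046088e7110620c2, 0x244889113c88911224, 0x129052225a444a0948]
  tops := [71]

end CfsgLib.Chevalley
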