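import Cfsg.Agent.Chevalley.Check
import Cfsg.Prelude.Def_ChevF4
import Cfsg.Agent.Eq.Def_ChevF4

/-! Literal tables for the type F4: root vectors, reflections and signs (generated). -/

set_option autoImplicit false

namespace CfsgLib.Chevalley

/-- Tables of type F4. -/
def tabF4 : Tab where
  vec := 0x1214131200000000121413110000000012141211000000001213121100000000121212110000000012121111000000001212111000000000111312110000000011121211000000001112111100000000111211100000000011111111000000001111111000000000111110100000000011101010000000001012121100000000101211110000000010121110000000001011111100000000101111100000000010111010000000001010111100000000101011100000000010101011000000001010100f0000000010100f100000000010100f0f00000000100f101000000000100f0f1000000000100f0f0f00000000100e0f1000000000100e0f0f00000000100e0e0f000000000f101010000000000f0f1010000000000f0f0f10000000000f0f0f0f000000000f0e0f10000000000f0e0f0f000000000f0e0e0f000000000f0d0e0f000000000e0e0f10000000000e0e0f0f000000000e0e0e0f000000000e0d0e0f000000000e0c0e0f000000000e0c0d0f000000000e0c0d0e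
  w := [0x2f2e2d28201f1e2c2726251d1c1b0e2b2a292423221a19181716150d0c0b060504211413120a09080311100f07020100, 0x2f2e2b2c2d2a292728242326252122201a191d1c141f1e181711101b131216150f0d0e0a090c0b070806050203040100, 0x2f2d2e2c2a2b2928262725242223211f201e1d1b1c18161a151917131412110f100e0c0d0b0a08090706040503010200, 0x2e2f2d2c2b292a2827252623242221201e1f1c1d1b191a1718151614121310110f0e0d0b0c090a080705060403020001]
  eta := [0x1ee3f81fc778, 0x1164fe7f2688, 0x488913c89112, 0x8450a5a50a21]
  tops := [44, 47]

end CfsgLib.Chevalley
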